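import Mathlib.Tactic.LinearCombination
import Mathlib.RingTheory.Localization.Away.Basic
import Mathlib.RingTheory.Finiteness.Basic
import Mathlib.Algebra.Algebra.Subalgebra.Basic
import Mathlib.RingTheory.Ideal.Quotient.Operations

/-!
# Transporting a finite extension iso away from `f` along an isomorphism modulo `f ^ n`
-/

set_option autoImplicit false
set_option linter.all false

universe u

open Function

namespace Groth.Agent.EtAlgExt.GlueModPow

theorem exists_uniform {A' A : Type u} [CommRing A'] [CommRing A] [Algebra A' A] [Module.Finite A' A]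
    (f : A')
    (hloc : Surjective (IsLocalization.Away.map (Localization.Away f)
      (Localization.Away (algebraMap A' A f)) (algebraMap A' A) f)) :
    ∃ c : ℕ, ∀ a : A, ∃ x : A', algebraMap A' A x = algebraMap A' A f ^ c * a := by
  classical
  have h1 : ∀ a : A, ∃ (c : ℕ) (x : A'), algebraMap A' A x = algebraMap A' A f ^ c * a := by
    intro a
    obtain ⟨z, hz⟩ := hloc (algebraMap A (Localization.Away (algebraMap A' A f)) a)
    obtain ⟨⟨x, ⟨_, k, rfl⟩⟩, hxk⟩ := IsLocalization.surj (Submonoid.powers f) z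
    have := congrArg (IsLocalization.Away.map (Localization.Away f)
      (Localization.Away (algebraMap A' A f)) (algebraMap A' A) f) hxk
    rw [map_mul, hz] at this
    simp only [IsLocalization.Away.map, IsLocalization.map_eq] at this
    rw [← map_mul] at this
    obtain ⟨⟨_, m, rfl⟩, hm⟩ :=
      (IsLocalization.eq_iff_exists (Submonoid.powers (algebraMap A' A f)) _).1 this
    refine ⟨m + k, f ^ m * x, ?_⟩
    simp only [map_mul, map_pow] at hm ⊢
    rw [← hm]
    ring
  choose c hc using h1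
  obtain ⟨s, hs⟩ := Module.Finite.fg_top (R := A') (M := A)
  refine ⟨s.sup c, fun a => ?_⟩
  have hle : Submodule.span A' (s : Set A) ≤
      (LinearMap.range (Algebra.linearMap A' A)).comap
        (LinearMap.mulLeft A' (algebraMap A' A f ^ s.sup c)) := by
    rw [Submodule.span_le]
    intro b hb
    obtain ⟨x, hx⟩ := hc b
    obtain ⟨e, he⟩ := Nat.exists_eq_add_of_le (Finset.le_sup (f := c) hb)
    refine ⟨f ^ e * x, ?_⟩
    show algebraMap A' A _ = algebraMap A' A f ^ s.sup c * b
    rw [map_mul, map_pow, hx, he, pow_add]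
    ring
  exact hle (hs.symm ▸ Submodule.mem_top : a ∈ Submodule.span A' (s : Set A))

variable {A' A B' : Type u} [CommRing A'] [CommRing A] [Algebra A' A] [CommRing B']
  {f : A'} {g : B'} {n c : ℕ} (φ : (A' ⧸ Ideal.span {f ^ n}) ≃+* (B' ⧸ Ideal.span {g ^ n}))

/-- `a` and `b` correspond after multiplication by the `c`-th powers. -/
def Rel (c : ℕ) (a : A) (b : Localization.Away g) : Prop :=
  ∃ (x : A') (y : B'), algebraMap A' A x = algebraMap A' A f ^ c * a ∧
    algebraMap B' (Localization.Away g) y = algebraMap B' (Localization.Away g) g ^ c * b ∧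
    φ (Ideal.Quotient.mk _ x) = Ideal.Quotient.mk _ y

variable {φ}

theorem Rel.add {a a' : A} {b b' : Localization.Away g} (h : Rel φ c a b) (h' : Rel φ c a' b') :
    Rel φ c (a + a') (b + b') := by
  obtain ⟨x, y, h1, h2, h3⟩ := h
  obtain ⟨x', y', h1', h2', h3'⟩ := h'
  exact ⟨x + x', y + y', by rw [map_add, h1, h1', mul_add], by rw [map_add, h2, h2', mul_add],
    by simp [map_add, h3, h3']⟩

theorem Rel.zero : Rel φ c (0 : A) 0 := ⟨0, 0, by simp, by simp, by simp⟩

theorem Rel.neg {a : A} {b : Localization.Away g} (h : Rel φ c a b) : Rel φ c (-a) (-b) := by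
  obtain ⟨x, y, h1, h2, h3⟩ := h
  exact ⟨-x, -y, by rw [map_neg, h1, mul_neg], by rw [map_neg, h2, mul_neg], by simp [h3]⟩

theorem Rel.smul {a : A} {b : Localization.Away g} (h : Rel φ c a b) {t : A'} {s : B'}
    (hts : φ (Ideal.Quotient.mk _ t) = Ideal.Quotient.mk _ s) :
    Rel φ c (algebraMap A' A t * a) (algebraMap B' (Localization.Away g) s * b) := by
  obtain ⟨x, y, h1, h2, h3⟩ := h
  exact ⟨t * x, s * y, by rw [map_mul, h1]; ring, by rw [map_mul, h2]; ring,
    by simp [h3, hts]⟩

theorem Rel.algebraMap_pair (hg : φ (Ideal.Quotient.mk _ f) = Ideal.Quotient.mk _ g) {t : A'} {s : B'}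
    (hts : φ (Ideal.Quotient.mk _ t) = Ideal.Quotient.mk _ s) :
    Rel φ c (algebraMap A' A t) (algebraMap B' (Localization.Away g) s) :=
  ⟨f ^ c * t, g ^ c * s, by simp, by simp, by simp [hg, hts]⟩

theorem Rel.mul (hinj : Injective (algebraMap A' A))
    (hc : ∀ a : A, ∃ x : A', algebraMap A' A x = algebraMap A' A f ^ c * a)
    (hn : 2 * c + 1 ≤ n) (hg : φ (Ideal.Quotient.mk _ f) = Ideal.Quotient.mk _ g)
    {a a' : A} {b b' : Localization.Away g} (h : Rel φ c a b) (h' : Rel φ c a' b') :
    ∃ w : A, Rel φ c (a * a' + algebraMap A' A f * w) (b * b') := by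
  obtain ⟨x, y, h1, h2, h3⟩ := h
  obtain ⟨x', y', h1', h2', h3'⟩ := h'
  obtain ⟨x₃, hx₃⟩ := hc (a * a')
  obtain ⟨z, hz⟩ := Ideal.Quotient.mk_surjective (φ (Ideal.Quotient.mk _ x₃))
  have hxx : x * x' = f ^ c * x₃ := hinj (by rw [map_mul, map_mul, map_pow, h1, h1', hx₃]; ring)
  have hyy : Ideal.Quotient.mk (Ideal.span {g ^ n}) (y * y') = Ideal.Quotient.mk _ (g ^ c * z) := by
    rw [map_mul, ← h3, ← h3', ← map_mul, ← map_mul, hxx, map_mul, map_mul, map_pow, map_pow, hg,
      map_mul, map_pow, hz]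
  rw [Ideal.Quotient.mk_eq_mk_iff_sub_mem, Ideal.mem_span_singleton'] at hyy
  obtain ⟨w, hw⟩ := hyy
  obtain ⟨e, rfl⟩ := Nat.exists_eq_add_of_le hn
  obtain ⟨w', hw'⟩ := φ.surjective (Ideal.Quotient.mk _ w)
  obtain ⟨w', rfl⟩ := Ideal.Quotient.mk_surjective w'
  refine ⟨algebraMap A' A f ^ e * algebraMap A' A w', x₃ + f ^ (c + 1 + e) * w',
    z + g ^ (c + 1 + e) * w, ?_, ?_, ?_⟩
  · rw [map_add, map_mul, map_pow, hx₃]
    ring
  · have hu : IsUnit (algebraMap B' (Localization.Away g) g ^ c) :=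
      (IsLocalization.map_units _ (⟨g, Submonoid.mem_powers g⟩ : Submonoid.powers g)).pow c
    refine hu.mul_left_cancel ?_
    have e1 : g ^ c * (z + g ^ (c + 1 + e) * w) = y * y' := by linear_combination hw
    rw [← map_pow, ← map_mul, e1, map_mul, h2, h2', map_pow]
    ring
  · simp [hz, hg, hw']

theorem exists_glue (hinj : Injective (algebraMap A' A)) [Module.Finite A' A]
    (hf : algebraMap A' A f ∈ nonZeroDivisors A)
    (hc : ∀ a : A, ∃ x : A', algebraMap A' A x = algebraMap A' A f ^ c * a)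
    (hn : 2 * c + 1 ≤ n) (hgnzd : g ∈ nonZeroDivisors B')
    (hg : φ (Ideal.Quotient.mk _ f) = Ideal.Quotient.mk _ g) :
    ∃ (B : Type u) (_ : CommRing B) (_ : Algebra B' B),
      Injective (algebraMap B' B) ∧ Module.Finite B' B ∧
      ∃ ψ : (A ⧸ Ideal.span {algebraMap A' A f}) ≃+* (B ⧸ Ideal.span {algebraMap B' B g}),
        ∀ (a' : A') (b' : B'), φ (Ideal.Quotient.mk _ a') = Ideal.Quotient.mk _ b' →
          ψ (Ideal.Quotient.mk _ (algebraMap A' A a')) = Ideal.Quotient.mk _ (algebraMap B' B b') := by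
  classical
  have hone : φ (Ideal.Quotient.mk _ 1) = Ideal.Quotient.mk _ (1 : B') := by simp
  have hbase : ∀ s : B', ∃ a : A, Rel φ c a (algebraMap B' (Localization.Away g) s) := fun s => by
    obtain ⟨t, ht⟩ := φ.surjective (Ideal.Quotient.mk _ s)
    obtain ⟨t, rfl⟩ := Ideal.Quotient.mk_surjective t
    exact ⟨_, Rel.algebraMap_pair hg ht⟩
  let B : Subalgebra B' (Localization.Away g) :=
    { carrier := {b | ∃ a : A, Rel φ c a b}
      mul_mem' := fun ⟨a, h⟩ ⟨a', h'⟩ => let ⟨w, hw⟩ := Rel.mul hinj hc hn hg h h'; ⟨_, hw⟩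
      one_mem' := by simpa using hbase 1
      add_mem' := fun ⟨a, h⟩ ⟨a', h'⟩ => ⟨_, h.add h'⟩
      zero_mem' := ⟨0, Rel.zero⟩
      algebraMap_mem' := hbase }
  choose α hα using fun b : B => b.2
  obtain ⟨e, he⟩ := Nat.exists_eq_add_of_le hn
  have hnc : n = c + (c + 1 + e) := by omega
  have huniq : ∀ {a a' : A} {b : Localization.Away g}, Rel φ c a b → Rel φ c a' b →
      a - a' ∈ Ideal.span {algebraMap A' A f} := by
    rintro a a' b ⟨x, y, h1, h2, h3⟩ ⟨x', y', h1', h2', h3'⟩
    have hy : y = y' := IsLocalization.injective (Localization.Away g)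
      (Submonoid.powers_le.2 hgnzd) (h2.trans h2'.symm)
    have hx := φ.injective (h3.trans ((congrArg _ hy).trans h3'.symm))
    rw [Ideal.Quotient.mk_eq_mk_iff_sub_mem, Ideal.mem_span_singleton'] at hx
    obtain ⟨t, ht⟩ := hx
    have h0 : algebraMap A' A f ^ c *
        (a - a' - algebraMap A' A f ^ (c + 1 + e) * algebraMap A' A t) = 0 := by
      have := congrArg (algebraMap A' A) ht
      rw [map_mul, map_pow, map_sub, h1, h1', hnc, pow_add] at this
      linear_combination -this
    rw [mul_comm, mul_right_mem_nonZeroDivisors_eq_zero_iff (pow_mem hf c), sub_eq_zero] at h0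
    exact Ideal.mem_span_singleton'.2 ⟨algebraMap A' A f ^ (c + e) * algebraMap A' A t,
      by rw [h0, show c + 1 + e = c + e + 1 by omega, pow_succ]; ring⟩
  let θ : B →+* A ⧸ Ideal.span {algebraMap A' A f} :=
    { toFun := fun b => Ideal.Quotient.mk _ (α b)
      map_one' := by
        rw [← map_one (Ideal.Quotient.mk (Ideal.span {algebraMap A' A f})),
          Ideal.Quotient.mk_eq_mk_iff_sub_mem]
        have := Rel.algebraMap_pair (A := A) (c := c) hg hone
        rw [map_one, map_one] at this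
        exact huniq (hα 1) this
      map_mul' := fun b b' => by
        obtain ⟨w, hw⟩ := Rel.mul hinj hc hn hg (hα b) (hα b')
        rw [← map_mul, Ideal.Quotient.mk_eq_mk_iff_sub_mem]
        have := add_mem (huniq (hα (b * b')) hw)
          (Ideal.mul_mem_right w _ (Ideal.mem_span_singleton_self (algebraMap A' A f)))
        convert this using 1
        ring
      map_zero' := by
        rw [← map_zero (Ideal.Quotient.mk (Ideal.span {algebraMap A' A f})),
          Ideal.Quotient.mk_eq_mk_iff_sub_mem]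
        exact huniq (hα 0) Rel.zero
      map_add' := fun b b' => by
        rw [← map_add, Ideal.Quotient.mk_eq_mk_iff_sub_mem]
        exact huniq (hα (b + b')) ((hα b).add (hα b')) }
  have hθ : ∀ (b : B) (a : A), Rel φ c a (b : Localization.Away g) →
      θ b = Ideal.Quotient.mk _ a := fun b a h =>
    Ideal.Quotient.mk_eq_mk_iff_sub_mem _ _ |>.2 (huniq (hα b) h)
  -- elements related to `0` are divisible by `g ^ (c + 1 + e)` inside `B'`
  have hzero : ∀ {b : Localization.Away g}, Rel φ c (0 : A) b →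
      ∃ w : B', b = algebraMap B' (Localization.Away g) (g ^ (c + 1 + e) * w) := by
    rintro b ⟨x, y, h1, h2, h3⟩
    have hx : x = 0 := hinj (by rw [h1, mul_zero, map_zero])
    rw [hx, map_zero, map_zero, eq_comm, Ideal.Quotient.eq_zero_iff_mem,
      Ideal.mem_span_singleton'] at h3
    obtain ⟨w, rfl⟩ := h3
    refine ⟨w, (((IsLocalization.map_units (Localization.Away g)
      (⟨g, Submonoid.mem_powers g⟩ : Submonoid.powers g)).pow c).mul_left_cancel ?_)⟩
    rw [← h2, hnc, ← map_pow, ← map_mul, pow_add]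
    congr 1
    ring
  have hex : ∀ a : A, ∃ b, Rel φ c a b := fun a => by
    obtain ⟨x, hx⟩ := hc a
    obtain ⟨y, hy⟩ := Ideal.Quotient.mk_surjective (φ (Ideal.Quotient.mk _ x))
    obtain ⟨v, hv⟩ := ((IsLocalization.map_units (Localization.Away g)
      (⟨g, Submonoid.mem_powers g⟩ : Submonoid.powers g)).pow c).exists_right_inv
    exact ⟨v * algebraMap B' _ y, x, y, hx, by rw [← mul_assoc, hv, one_mul], hy.symm⟩
  have hsurj : Surjective θ := fun q => by
    obtain ⟨a, rfl⟩ := Ideal.Quotient.mk_surjective q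
    obtain ⟨b, hb⟩ := hex a
    exact ⟨⟨b, a, hb⟩, hθ ⟨b, a, hb⟩ a hb⟩
  have hker : RingHom.ker θ = Ideal.span {algebraMap B' B g} := by
    refine le_antisymm (fun b hb => ?_) ((Ideal.span_le).2 ?_)
    · have h0 : α b ∈ Ideal.span {algebraMap A' A f} := Ideal.Quotient.eq_zero_iff_mem.1 hb
      obtain ⟨a₀, ha₀⟩ := Ideal.mem_span_singleton'.1 h0
      obtain ⟨b₀, hb₀⟩ := hex a₀
      have h1 : Rel φ c (α b) (algebraMap B' _ g * b₀) := by
        rw [← ha₀, mul_comm]
        exact hb₀.smul hg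
      obtain ⟨w, hw⟩ := hzero (by simpa using (hα b).add h1.neg :
        Rel φ c (0 : A) ((b : Localization.Away g) + -(algebraMap B' _ g * b₀)))
      refine Ideal.mem_span_singleton'.2
        ⟨⟨b₀, a₀, hb₀⟩ + algebraMap B' B (g ^ (c + e) * w), Subtype.ext ?_⟩
      rw [← sub_eq_add_neg, sub_eq_iff_eq_add] at hw
      show (b₀ + algebraMap B' _ (g ^ (c + e) * w)) * algebraMap B' _ g = (b : Localization.Away g)
      rw [hw, show c + 1 + e = c + e + 1 by omega]
      simp only [map_mul, map_pow]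
      ring
    · rintro _ rfl
      rw [SetLike.mem_coe, RingHom.mem_ker, hθ (algebraMap B' B g) _ (Rel.algebraMap_pair hg hg),
        Ideal.Quotient.eq_zero_iff_mem]
      exact Ideal.mem_span_singleton_self _
  refine ⟨B, inferInstance, inferInstance, fun s s' h => ?_, ?_, ?_⟩
  · exact IsLocalization.injective (Localization.Away g) (Submonoid.powers_le.2 hgnzd)
      (congrArg Subtype.val h)
  · obtain ⟨s, hs⟩ := Module.Finite.fg_top (R := A') (M := A)
    choose β hβ using hex
    let gens : Finset B := insert 1 (s.image fun a => ⟨β a, a, hβ a⟩)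
    refine ⟨⟨gens, top_le_iff.1 fun b _ => ?_⟩⟩
    suffices ∀ a ∈ Submodule.span A' (s : Set A),
        ∃ b₁ ∈ Submodule.span B' (gens : Set B), Rel φ c a (b₁ : Localization.Away g) by
      obtain ⟨b₁, hb₁, hr⟩ := this (α b) (hs.symm ▸ Submodule.mem_top)
      obtain ⟨w, hw⟩ := hzero (by simpa using (hα b).add hr.neg :
        Rel φ c (0 : A) ((b : Localization.Away g) + -(b₁ : Localization.Away g)))
      have hb : b = b₁ + (g ^ (c + 1 + e) * w) • (1 : B) := Subtype.ext (by
        rw [← sub_eq_add_neg, sub_eq_iff_eq_add] at hw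
        rw [hw, add_comm]
        simp [Algebra.smul_def])
      rw [hb]
      exact add_mem hb₁ (Submodule.smul_mem _ _ (Submodule.subset_span (Finset.mem_insert_self _ _)))
    intro a ha
    induction ha using Submodule.span_induction with
    | mem a ha =>
      exact ⟨⟨β a, a, hβ a⟩, Submodule.subset_span
        (Finset.mem_insert_of_mem (Finset.mem_image_of_mem (fun a => (⟨β a, a, hβ a⟩ : B)) ha)),
        hβ a⟩
    | zero => exact ⟨0, zero_mem _, Rel.zero⟩
    | add a a' _ _ h h' =>
      obtain ⟨b₁, hb₁, hr₁⟩ := h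
      obtain ⟨b₂, hb₂, hr₂⟩ := h'
      exact ⟨b₁ + b₂, add_mem hb₁ hb₂, hr₁.add hr₂⟩
    | smul t a _ h =>
      obtain ⟨b₁, hb₁, hr₁⟩ := h
      obtain ⟨s', hs'⟩ := Ideal.Quotient.mk_surjective (φ (Ideal.Quotient.mk _ t))
      refine ⟨s' • b₁, Submodule.smul_mem _ _ hb₁, ?_⟩
      rw [Algebra.smul_def, Subalgebra.coe_smul, Algebra.smul_def]
      exact hr₁.smul hs'.symm
  · refine ⟨((Ideal.quotEquivOfEq hker.symm).trans
      (RingHom.quotientKerEquivOfSurjective hsurj)).symm, fun a' b' h => ?_⟩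
    rw [RingEquiv.symm_apply_eq]
    exact (hθ (algebraMap B' B b') _ (Rel.algebraMap_pair hg h)).symm

end Groth.Agent.EtAlgExt.GlueModPow
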