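import Groth.Agent.HenselLib.FlatQuot
import Mathlib.Algebra.Module.LocalizedModule.Basic
import Mathlib.LinearAlgebra.TensorProduct.Pi
import Mathlib.RingTheory.Flat.Basic
import Mathlib.RingTheory.Finiteness.Ideal

/-!
# Lifting extensions by torsion modules along a flat map which is an iso mod `I`
-/

set_option autoImplicit false
set_option linter.all false

universe u

open TensorProduct Function
open Groth.Agent.HenselLib.FlatQuot

namespace Groth.Agent.EtAlgExt.TorsExtLift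

section Extend
variable {R X Y Z : Type u} [CommRing R] [AddCommGroup X] [Module R X] [AddCommGroup Y] [Module R Y]
  [AddCommGroup Z] [Module R Z]

theorem exists_extend (a : R) (i : X →ₗ[R] Y) (hi : Injective i) (g : X →ₗ[R] Z)
    (hZ : Bijective fun z : Z => a • z) (h : ∀ e, ∃ (n : ℕ) (x : X), i x = a ^ n • e) :
    ∃ ψ : Y →ₗ[R] Z, ∀ x, ψ (i x) = g x := by
  have hpow : ∀ n : ℕ, Bijective fun z : Z => a ^ n • z := fun n => by
    induction n with
    | zero => simp only [pow_zero, one_smul]; exact bijective_id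
    | succ n ih => simpa [Function.comp_def, pow_succ, mul_smul] using ih.comp hZ
  have huniq : ∀ (e : Y) (z z' : Z), (∃ n x, i x = a ^ n • e ∧ a ^ n • z = g x) →
      (∃ n x, i x = a ^ n • e ∧ a ^ n • z' = g x) → z = z' := by
    rintro e z z' ⟨n, x, hx, hz⟩ ⟨m, y, hy, hz'⟩
    have hxy : a ^ m • x = a ^ n • y := hi (by
      rw [map_smul, map_smul, hx, hy, smul_comm])
    refine (hpow (n + m)).1 ?_
    show a ^ (n + m) • z = a ^ (n + m) • z'
    rw [pow_add, mul_smul, smul_comm, hz, ← map_smul, hxy, map_smul, ← hz', ← mul_smul]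
  have hex : ∀ e : Y, ∃ z : Z, ∃ n x, i x = a ^ n • e ∧ a ^ n • z = g x := fun e => by
    obtain ⟨n, x, hx⟩ := h e
    obtain ⟨z, hz⟩ := (hpow n).2 (g x)
    exact ⟨z, n, x, hx, hz⟩
  choose ψ hψ using hex
  refine ⟨{ toFun := ψ, map_add' := fun e e' => ?_, map_smul' := fun r e => ?_ }, fun x => ?_⟩
  · obtain ⟨n, x, hx, hz⟩ := hψ e
    obtain ⟨m, y, hy, hz'⟩ := hψ e'
    exact huniq _ _ _ (hψ _) ⟨n + m, a ^ m • x + a ^ n • y,
      by rw [map_add, map_smul, map_smul, hx, hy, pow_add]; module,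
      by rw [map_add, map_smul, map_smul, ← hz, ← hz', pow_add]; module⟩
  · obtain ⟨n, x, hx, hz⟩ := hψ e
    exact huniq _ _ _ (hψ _) ⟨n, r • x, by rw [map_smul, hx, smul_comm],
      by rw [map_smul, ← hz, smul_comm]; rfl⟩
  · exact huniq _ _ _ (hψ _) ⟨0, x, by simp, by simp⟩

theorem bijective_smul_lTensor (S : Type u) [AddCommGroup S] [Module R S] (a : R)
    (hu : IsUnit (algebraMap R (Module.End R Z) a)) : Bijective fun z : S ⊗[R] Z => a • z := by
  obtain ⟨u, hu⟩ := hu
  have hl : ∀ z : S ⊗[R] Z, a • z = (u : Module.End R Z).lTensor S z := fun z => by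
    rw [hu, Module.algebraMap_end_eq_smul_id, LinearMap.lTensor_smul, LinearMap.lTensor_id]
    rfl
  simp only [hl]
  refine bijective_iff_has_inverse.2
    ⟨((↑u⁻¹ : Module.End R Z)).lTensor S, fun z => ?_, fun z => ?_⟩
  · show ((↑u⁻¹ : Module.End R Z)).lTensor S ((u : Module.End R Z).lTensor S z) = z
    rw [← LinearMap.comp_apply, ← LinearMap.lTensor_comp, ← Module.End.mul_eq_comp, Units.inv_mul,
      Module.End.one_eq_id, LinearMap.lTensor_id, LinearMap.id_apply]
  · show (u : Module.End R Z).lTensor S (((↑u⁻¹ : Module.End R Z)).lTensor S z) = z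
    rw [← LinearMap.comp_apply, ← LinearMap.lTensor_comp, ← Module.End.mul_eq_comp, Units.mul_inv,
      Module.End.one_eq_id, LinearMap.lTensor_id, LinearMap.id_apply]

end Extend

variable {R S : Type u} [CommRing R] [CommRing S] [Algebra R S] [Module.Flat R S] {I : Ideal R}

theorem exists_lift (hI : I.FG)
    (hq : Bijective (Ideal.quotientMap (I.map (algebraMap R S)) (algebraMap R S) Ideal.le_comap_map))
    {N M E' : Type u} [AddCommGroup N] [Module R N] [AddCommGroup M] [Module R M]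
    (hM : ∀ m : M, IsTors I m) [AddCommGroup E'] [Module R E']
    (i' : S ⊗[R] N →ₗ[R] E') (p' : E' →ₗ[R] S ⊗[R] M)
    (hi' : Injective i') (hp' : Surjective p') (hex' : LinearMap.range i' = LinearMap.ker p') :
    ∃ (E : Type u) (_ : AddCommGroup E) (_ : Module R E) (i : N →ₗ[R] E) (p : E →ₗ[R] M)
      (g : E →ₗ[R] E'),
      Injective i ∧ Surjective p ∧ LinearMap.range i = LinearMap.ker p ∧
      (∀ n : N, g (i n) = i' ((1 : S) ⊗ₜ[R] n)) ∧ (∀ e : E, p' (g e) = (1 : S) ⊗ₜ[R] p e) := by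
  classical
  obtain ⟨t, f, hf⟩ := (Submodule.fg_iff_exists_fin_generating_family.1 hI :
    ∃ (t : ℕ) (f : Fin t → R), Submodule.span R (Set.range f) = I)
  have hfmem : ∀ i, f i ∈ I := fun i => hf ▸ Submodule.subset_span ⟨i, rfl⟩
  -- localizations
  let Ni : Fin t → Type u := fun i => LocalizedModule (Submonoid.powers (f i)) N
  let Nij : Fin t × Fin t → Type u :=
    fun q => LocalizedModule (Submonoid.powers (f q.1 * f q.2)) N
  let c : ∀ i, N →ₗ[R] Ni i := fun i => LocalizedModule.mkLinearMap _ N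
  let c₂ : ∀ q, N →ₗ[R] Nij q := fun q => LocalizedModule.mkLinearMap _ N
  have hu : ∀ i, IsUnit (algebraMap R (Module.End R (Ni i)) (f i)) := fun i =>
    IsLocalizedModule.map_units (c i) (⟨f i, Submonoid.mem_powers _⟩ : Submonoid.powers (f i))
  have hu₂ : ∀ q, IsUnit (algebraMap R (Module.End R (Nij q)) (f q.1)) ∧
      IsUnit (algebraMap R (Module.End R (Nij q)) (f q.2)) := fun q => by
    have h := IsLocalizedModule.map_units (c₂ q)
      (⟨f q.1 * f q.2, Submonoid.mem_powers _⟩ : Submonoid.powers (f q.1 * f q.2))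
    change IsUnit (algebraMap R (Module.End R (Nij q)) (f q.1 * f q.2)) at h
    rw [map_mul] at h
    exact ((Commute.map (Commute.all (f q.1) (f q.2)) _).isUnit_mul_iff).1 h
  have hpw : ∀ {Z : Type u} [AddCommGroup Z] [Module R Z] (a : R),
      IsUnit (algebraMap R (Module.End R Z) a) →
      ∀ x : Submonoid.powers a, IsUnit (algebraMap R (Module.End R Z) x) := by
    intro Z _ _ a ha x
    obtain ⟨n, hn⟩ := x.2
    rw [← hn, map_pow]
    exact ha.pow n
  let l₁ : ∀ q : Fin t × Fin t, Ni q.1 →ₗ[R] Nij q := fun q =>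
    LocalizedModule.lift _ (c₂ q) (hpw _ (hu₂ q).1)
  let l₂ : ∀ q : Fin t × Fin t, Ni q.2 →ₗ[R] Nij q := fun q =>
    LocalizedModule.lift _ (c₂ q) (hpw _ (hu₂ q).2)
  have hl₁ : ∀ q n, l₁ q (c q.1 n) = c₂ q n := fun q n =>
    LinearMap.congr_fun (LocalizedModule.lift_comp _ (c₂ q) (hpw _ (hu₂ q).1)) n
  have hl₂ : ∀ q n, l₂ q (c q.2 n) = c₂ q n := fun q n =>
    LinearMap.congr_fun (LocalizedModule.lift_comp _ (c₂ q) (hpw _ (hu₂ q).2)) n
  let d : (Π i, Ni i) →ₗ[R] (Π q, Nij q) :=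
    LinearMap.pi fun q => l₁ q ∘ₗ LinearMap.proj q.1 - l₂ q ∘ₗ LinearMap.proj q.2
  let H := LinearMap.ker d
  let cH : N →ₗ[R] H := LinearMap.codRestrict H (LinearMap.pi c) fun n => funext fun q => by
    show l₁ q (c q.1 n) - l₂ q (c q.2 n) = 0
    rw [hl₁, hl₂, sub_self]
  -- torsion criterion
  have htors : ∀ {Z : Type u} [AddCommGroup Z] [Module R Z] (z : Z),
      (∀ i, ∃ n : ℕ, f i ^ n • z = 0) → IsTors I z := by
    intro Z _ _ z hz
    have hle : I ≤ Ideal.radical (LinearMap.ker (LinearMap.toSpanSingleton R Z z)) := by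
      rw [← hf, Submodule.span_le]
      rintro _ ⟨i, rfl⟩
      obtain ⟨n, hn⟩ := hz i
      exact ⟨n, LinearMap.mem_ker.2 hn⟩
    obtain ⟨n, hn⟩ := Ideal.exists_pow_le_of_le_radical_of_fg hle hI
    exact ⟨n, fun a ha => LinearMap.mem_ker.1 (hn ha)⟩
  have hK : ∀ k : LinearMap.ker cH, IsTors I k := fun k => htors k fun i => by
    have h0 : c i k = 0 := congrFun (congrArg Subtype.val (LinearMap.mem_ker.1 k.2)) i
    obtain ⟨⟨a, n, rfl⟩, ha⟩ :=
      (IsLocalizedModule.eq_zero_iff (Submonoid.powers (f i)) (c i)).1 h0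
    exact ⟨n, Subtype.ext ha⟩
  have hT : ∀ z : H ⧸ LinearMap.range cH, IsTors I z := fun z => by
    obtain ⟨h, rfl⟩ := Submodule.mkQ_surjective _ z
    refine htors _ fun k => ?_
    obtain ⟨⟨x, ⟨_, n, rfl⟩⟩, hx⟩ :=
      IsLocalizedModule.surj (Submonoid.powers (f k)) (c k) (h.1 k)
    change f k ^ n • h.1 k = c k x at hx
    have hloc : ∀ i, ∃ m : ℕ, f k ^ m • (f k ^ n • h.1 i - c i x) = 0 := fun i => by
      have hd := congrFun (LinearMap.mem_ker.1 h.2) (i, k)
      change l₁ (i, k) (h.1 i) - l₂ (i, k) (h.1 k) = 0 at hd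
      have h0 : l₁ (i, k) (f k ^ n • h.1 i - c i x) = 0 := by
        rw [map_sub, map_smul, sub_eq_zero.1 hd, ← map_smul, hx, hl₂, hl₁]
        exact sub_self _
      obtain ⟨⟨y, ⟨_, m, rfl⟩⟩, hy⟩ :=
        IsLocalizedModule.surj (Submonoid.powers (f i)) (c i) (f k ^ n • h.1 i - c i x)
      change f i ^ m • _ = c i y at hy
      have h1 : c₂ (i, k) y = 0 := by
        rw [← hl₁, ← hy, map_smul, h0, smul_zero]
      obtain ⟨⟨_, l, rfl⟩, hl⟩ :=
        (IsLocalizedModule.eq_zero_iff (Submonoid.powers (f i * f k)) (c₂ (i, k))).1 h1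
      change (f i * f k) ^ l • y = 0 at hl
      refine ⟨l, ?_⟩
      have hb : Injective fun z : Ni i => f i ^ (l + m) • z := fun z z' e => by
        have := ((Module.End.isUnit_iff _).1 ((hu i).pow (l + m))).1
        rw [← map_pow] at this
        exact this e
      refine hb ?_
      show f i ^ (l + m) • _ = f i ^ (l + m) • (0 : Ni i)
      rw [smul_zero, pow_add, mul_smul, smul_comm (f i ^ m), hy, ← mul_smul, ← mul_pow,
        ← map_smul, hl, map_zero]
    choose m hm using hloc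
    refine ⟨Finset.univ.sup m + n, ?_⟩
    rw [← map_smul, Submodule.mkQ_apply, Submodule.Quotient.mk_eq_zero]
    refine ⟨f k ^ Finset.univ.sup m • x, Subtype.ext (funext fun i => ?_)⟩
    obtain ⟨e, he⟩ := Nat.exists_eq_add_of_le (Finset.le_sup (f := m) (Finset.mem_univ i))
    show c i (f k ^ Finset.univ.sup m • x) = f k ^ (Finset.univ.sup m + n) • h.1 i
    rw [map_smul, pow_add, mul_smul, eq_comm, ← sub_eq_zero, ← smul_sub, he, add_comm, pow_add,
      mul_smul, hm i, smul_zero]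
  -- the extension of `1 ⊗ c` to `E'`
  have hE' : ∀ (i : Fin t) (e : E'), ∃ (n : ℕ) (x : S ⊗[R] N), i' x = f i ^ n • e := by
    intro i e
    obtain ⟨m, hm⟩ := (bijective_mk_of_torsion (S := S) hq M hM).2 (p' e)
    obtain ⟨n, hn⟩ := hM m
    refine ⟨n, (?_ : f i ^ n • e ∈ LinearMap.range i')⟩
    rw [hex', LinearMap.mem_ker, map_smul, ← hm, ← map_smul,
      hn _ (Ideal.pow_mem_pow (hfmem i) n), map_zero]
  choose ψ hψ using fun i => exists_extend (f i) i' hi' ((c i).lTensor S)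
    (bijective_smul_lTensor S (f i) (hu i)) (hE' i)
  let π := TensorProduct.piRight R R S Ni
  let Ψ : E' →ₗ[R] S ⊗[R] (Π i, Ni i) := π.symm.toLinearMap ∘ₗ LinearMap.pi ψ
  have hπ : ∀ (z : S ⊗[R] (Π i, Ni i)) i, π z i = (LinearMap.proj i).lTensor S z := fun z i => by
    induction z with
    | zero => simp
    | tmul s x => simp [π]
    | add a b ha hb => rw [map_add, map_add, ← ha, ← hb]; rfl
  have hΨ : ∀ e i, (LinearMap.proj i).lTensor S (Ψ e) = ψ i e := fun e i => by
    rw [← hπ]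
    show π (π.symm (fun i => ψ i e)) i = ψ i e
    rw [LinearEquiv.apply_symm_apply]
  have hΨi : ∀ x, Ψ (i' x) = (H.subtype ∘ₗ cH).lTensor S x := fun x => by
    refine π.injective (funext fun i => ?_)
    rw [hπ, hπ, hΨ, hψ, ← LinearMap.comp_apply, ← LinearMap.lTensor_comp]
    rfl
  have hΨd : ∀ e, d.lTensor S (Ψ e) = 0 := fun e => by
    refine (TensorProduct.piRight R R S Nij).injective (funext fun q => ?_)
    have hπ₂ : ∀ (z : S ⊗[R] (Π q, Nij q)),
        TensorProduct.piRight R R S Nij z q = (LinearMap.proj q).lTensor S z := fun z => by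
      induction z with
      | zero => simp
      | tmul s x => simp
      | add a b ha hb => rw [map_add, map_add, ← ha, ← hb]; rfl
    rw [map_zero, hπ₂, ← LinearMap.comp_apply, ← LinearMap.lTensor_comp]
    obtain ⟨n, x, hx⟩ := hE' q.1 e
    have hb : Bijective fun z : S ⊗[R] Nij q => f q.1 ^ n • z :=
      bijective_smul_lTensor S _ (by rw [map_pow]; exact (hu₂ q).1.pow n)
    refine hb.1 ?_
    show f q.1 ^ n • _ = f q.1 ^ n • (0 : S ⊗[R] Nij q)
    rw [smul_zero, ← map_smul, ← map_smul, ← hx, hΨi, ← LinearMap.comp_apply,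
      ← LinearMap.lTensor_comp]
    have : ((LinearMap.proj q).comp d).comp (H.subtype ∘ₗ cH) = 0 := LinearMap.ext fun n =>
      congrFun (LinearMap.mem_ker.1 (cH n).2) q
    rw [this, LinearMap.lTensor_zero, LinearMap.zero_apply]
  -- the lifted extension
  let E : Submodule R (E' × H) := LinearMap.ker
    (Ψ ∘ₗ LinearMap.fst R E' H -
      (TensorProduct.mk R S _ 1) ∘ₗ H.subtype ∘ₗ LinearMap.snd R E' H)
  have hmem : ∀ z : E' × H, z ∈ E ↔ Ψ z.1 = (1 : S) ⊗ₜ[R] (z.2 : Π i, Ni i) := fun z => by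
    simp [E, LinearMap.mem_ker, sub_eq_zero]
  let eM := LinearEquiv.ofBijective (TensorProduct.mk R S M 1) (bijective_mk_of_torsion hq M hM)
  let iE : N →ₗ[R] E := LinearMap.codRestrict E
    ((i' ∘ₗ TensorProduct.mk R S N 1).prod cH) fun n => (hmem _).2 (by
      show Ψ (i' (1 ⊗ₜ n)) = _
      rw [hΨi, LinearMap.lTensor_tmul]
      rfl)
  let gE : E →ₗ[R] E' := LinearMap.fst R E' H ∘ₗ E.subtype
  let pE : E →ₗ[R] M := eM.symm.toLinearMap ∘ₗ p' ∘ₗ gE
  have hpE : ∀ e : E, (1 : S) ⊗ₜ[R] pE e = p' e.1.1 := fun e => eM.apply_symm_apply _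
  have hsub : Injective (H.subtype.lTensor S) :=
    Module.Flat.lTensor_preserves_injective_linearMap _ H.injective_subtype
  have hexT := lTensor_exact S (LinearMap.exact_map_mkQ_range cH) (Submodule.mkQ_surjective _)
  have hexK := Module.Flat.lTensor_exact (M := S) (LinearMap.exact_subtype_ker_map cH)
  refine ⟨E, inferInstance, inferInstance, iE, pE, gE, ?_, ?_, ?_, fun n => rfl,
    fun e => (hpE e).symm⟩
  · refine (injective_iff_map_eq_zero _).2 fun n hn => ?_
    have h1 : i' ((1 : S) ⊗ₜ[R] n) = 0 := congrArg (fun z : E => z.1.1) hn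
    have h2 : cH n = 0 := congrArg (fun z : E => z.1.2) hn
    have h3 : (1 : S) ⊗ₜ[R] (⟨n, h2⟩ : LinearMap.ker cH) = 0 :=
      Module.Flat.lTensor_preserves_injective_linearMap (M := S) (LinearMap.ker cH).subtype
        (Submodule.injective_subtype _) (by
          rw [LinearMap.lTensor_tmul, map_zero]
          exact (map_eq_zero_iff i' hi').1 h1)
    exact congrArg Subtype.val
      ((bijective_mk_of_torsion (S := S) hq _ hK).1 (h3.trans (map_zero _).symm))
  · intro m
    obtain ⟨e, he⟩ := hp' ((1 : S) ⊗ₜ[R] m)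
    obtain ⟨z, hz⟩ := (Module.Flat.lTensor_exact (M := S) (LinearMap.exact_subtype_ker_map d) _).1
      (hΨd e)
    obtain ⟨hbar, hhbar⟩ := (bijective_mk_of_torsion (S := S) hq _ hT).2
      ((LinearMap.range cH).mkQ.lTensor S z)
    obtain ⟨h, rfl⟩ := Submodule.mkQ_surjective _ hbar
    obtain ⟨s, hs⟩ := (hexT (z - 1 ⊗ₜ h)).1 (by
      rw [map_sub, LinearMap.lTensor_tmul, ← hhbar]
      exact sub_self _)
    refine ⟨⟨(e - i' s, h), (hmem _).2 ?_⟩, eM.injective ?_⟩
    · show Ψ (e - i' s) = _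
      rw [map_sub, hΨi, ← hz, LinearMap.lTensor_comp, LinearMap.comp_apply, hs, map_sub,
        LinearMap.lTensor_tmul, sub_sub_cancel]
      rfl
    · show (1 : S) ⊗ₜ[R] _ = (1 : S) ⊗ₜ[R] m
      rw [hpE]
      show p' (e - i' s) = _
      have : p' (i' s) = 0 := LinearMap.mem_ker.1 (hex' ▸ ⟨s, rfl⟩)
      rw [map_sub, this, sub_zero, he]
  · refine le_antisymm ?_ ?_
    · rintro _ ⟨n, rfl⟩
      refine LinearMap.mem_ker.2 (eM.injective ?_)
      rw [map_zero]
      show (1 : S) ⊗ₜ[R] _ = 0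
      rw [hpE]
      exact LinearMap.mem_ker.1 (hex' ▸ ⟨_, rfl⟩)
    · intro z hz
      obtain ⟨⟨e, h⟩, heh⟩ := z
      have hp0 : p' e = 0 := by
        rw [← hpE ⟨⟨e, h⟩, heh⟩, LinearMap.mem_ker.1 hz, tmul_zero]
      obtain ⟨s, rfl⟩ : e ∈ LinearMap.range i' := hex' ▸ hp0
      have hsh : cH.lTensor S s = (1 : S) ⊗ₜ[R] h := hsub (by
        rw [← LinearMap.comp_apply, ← LinearMap.lTensor_comp, ← hΨi, (hmem _).1 heh,
          LinearMap.lTensor_tmul]
        rfl)
      obtain ⟨n₀, rfl⟩ : h ∈ LinearMap.range cH := by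
        rw [← Submodule.Quotient.mk_eq_zero]
        refine (bijective_mk_of_torsion (S := S) hq _ hT).1 ?_
        rw [map_zero]
        show (1 : S) ⊗ₜ[R] (LinearMap.range cH).mkQ h = 0
        rw [← LinearMap.lTensor_tmul, ← hsh]
        exact (hexT _).2 ⟨s, rfl⟩
      obtain ⟨η, hη⟩ := (hexK (s - 1 ⊗ₜ n₀)).1 (by
        rw [map_sub, hsh, LinearMap.lTensor_tmul, sub_self])
      obtain ⟨k, rfl⟩ := (bijective_mk_of_torsion (S := S) hq _ hK).2 η
      rw [TensorProduct.mk_apply, LinearMap.lTensor_tmul, eq_sub_iff_add_eq, ← tmul_add,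
        Submodule.coe_subtype] at hη
      refine ⟨k + n₀, Subtype.ext (Prod.ext ?_ ?_)⟩
      · show i' ((1 : S) ⊗ₜ[R] ((k : N) + n₀)) = i' s
        rw [hη]
      · show cH ((k : N) + n₀) = cH n₀
        rw [map_add, LinearMap.mem_ker.1 k.2, zero_add]

end Groth.Agent.EtAlgExt.TorsExtLift
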